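import Groth.Agent.Coherent.QcohOps
import Mathlib.AlgebraicGeometry.Modules.Tilde
import Mathlib.Algebra.Homology.ShortComplex.ExactFunctor

/-!
# Exactness of `M ↦ M~`; colimits of quasi-coherent modules on affine schemes
-/

universe u

namespace Groth.Agent.AffSchLib

open CategoryTheory CategoryTheory.Limits AlgebraicGeometry

theorem mono_map_of_mem_essImage {C D : Type*} [Category C] [Category D] [Abelian C] [Abelian D]
    (T : C ⥤ D) [T.Additive] [T.Full] [T.Faithful] {M N : C} (φ : M ⟶ N) [Mono φ]
    (h : T.essImage (kernel (T.map φ))) : Mono (T.map φ) := by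
  obtain ⟨K, ⟨e⟩⟩ := h
  have hg := T.map_preimage (e.hom ≫ kernel.ι (T.map φ))
  have h1 : T.map (T.preimage (e.hom ≫ kernel.ι (T.map φ)) ≫ φ) = T.map 0 := by
    rw [T.map_comp, hg, Category.assoc, kernel.condition, comp_zero, Functor.map_zero]
  have h0 : e.hom ≫ kernel.ι (T.map φ) = 0 := by
    rw [← hg, zero_of_comp_mono φ (T.map_injective h1), Functor.map_zero]
  refine Preadditive.mono_of_kernel_zero ?_
  rw [← cancel_epi e.hom, h0, comp_zero]

variable (R : CommRingCat.{u})

theorem preservesFiniteLimits_tilde : PreservesFiniteLimits (tilde.functor R) := by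
  refine (Functor.preservesFiniteLimits_iff_forall_exact_map_and_mono _).2 fun S hS => ⟨?_, ?_⟩
  · exact ((Functor.preservesFiniteColimits_iff_forall_exact_map_and_epi _).1 inferInstance S hS).1
  · have := hS.mono_f
    have hq : Coh.IsQCoh (kernel ((tilde.functor R).map S.f)) :=
      have : Coh.IsQCoh ((tilde.functor R).obj S.X₁) :=
        inferInstanceAs ((tilde S.X₁).IsQuasicoherent)
      have : Coh.IsQCoh ((tilde.functor R).obj S.X₂) :=
        inferInstanceAs ((tilde S.X₂).IsQuasicoherent)
      Groth.Agent.Coherent.isQCoh_kernel _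
    refine mono_map_of_mem_essImage _ _ ?_
    rw [essImage_tilde]
    exact hq

theorem preservesFiniteColimits_tilde : PreservesFiniteColimits (tilde.functor R) :=
  inferInstance

theorem isQuasicoherent_colimit {J : Type u} [SmallCategory J] (F : J ⥤ (Spec R).Modules)
    (hF : ∀ j, (F.obj j).IsQuasicoherent) : (colimit F).IsQuasicoherent := by
  have : ∀ j, IsIso ((tilde.adjunction (R := R)).counit.app (F.obj j)) := fun j =>
    (isQuasicoherent_iff_isIso_fromTildeΓ _).1 (hF j)
  let G := F ⋙ moduleSpecΓFunctor (R := R)
  let e : G ⋙ tilde.functor R ≅ F :=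
    NatIso.ofComponents (fun j => asIso ((tilde.adjunction (R := R)).counit.app (F.obj j)))
      (fun f => (tilde.adjunction (R := R)).counit.naturality (F.map f))
  exact (SheafOfModules.isQuasicoherent (Spec R).ringCatSheaf).prop_of_iso
    (((IsColimit.precomposeInvEquiv e _).symm
      (isColimitOfPreserves (tilde.functor R) (colimit.isColimit G))).coconePointUniqueUpToIso
        (colimit.isColimit F))
    (inferInstanceAs ((tilde (colimit G)).IsQuasicoherent))

end Groth.Agent.AffSchLib
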