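import Groth.Prelude.Def_Coh
import Mathlib.AlgebraicGeometry.Modules.Tilde

/-! Quasi-coherent modules on affine schemes are tildes. -/

set_option autoImplicit false
set_option backward.isDefEq.respectTransparency false

universe u

open CategoryTheory AlgebraicGeometry

namespace Groth.Agent.AffSchLib

theorem exists_tilde_iso {R : CommRingCat.{u}} (P : (Spec R).Modules) [h : Coh.IsQCoh P] :
    ∃ (M : ModuleCat.{u} R), Nonempty (tilde M ≅ P) := by
  have : IsIso (Scheme.Modules.fromTildeΓ P) :=
    @Scheme.Modules.isIso_fromTildeΓ_of_isQuasicoherent R P h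
  let e : tilde ((modulesSpecToSheaf.obj P).presheaf.obj (Opposite.op ⊤)) ≅ P :=
    asIso (Scheme.Modules.fromTildeΓ P)
  exact ⟨_, ⟨e⟩⟩

end Groth.Agent.AffSchLib
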