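import Groth.Prelude.Def_Coh
import Groth.Prelude.Def_CohB1
import Groth.Agent.AffSchLib.TildeIso
import Groth.Agent.Coherent.SubFTApps
import Groth.Agent.Coherent.CohOps
import Groth.Agent.Coherent.FiniteType
import Groth.Agent.Props12.TildeFin
import Groth.Agent.EGA43.InjFibre.Scheme

/-! Coherent modules on quasi-compact opens of affine schemes. -/

set_option autoImplicit false

universe u

open CategoryTheory AlgebraicGeometry

namespace Groth.Agent.AffSchLib

theorem isFT_restrict {X Y : Scheme.{u}} (j : Y ⟶ X) [IsOpenImmersion j] (M : X.Modules)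
    (h : CohB1.IsFT M) : CohB1.IsFT (M.restrict j) := by
  refine Coherent.isFT_of_locallyFinGen fun y => ?_
  obtain ⟨U, I, _, s, hyU, hs⟩ := Coherent.locallyFinGen_of_isFT M h (j y)
  have hle : j ''ᵁ (j ⁻¹ᵁ U) ≤ U := by rw [j.image_preimage_eq_opensRange_inf]; exact inf_le_right
  exact ⟨j ⁻¹ᵁ U, I, inferInstance, _, hyU, Coherent.genOn_restrict_of_genOn j M (hs.res hle)⟩

theorem exists_finite_tilde_restrict {R : CommRingCat.{u}} (V : (Spec R).Opens)
    (hV : IsCompact (V : Set (Spec R))) (F : (V : Scheme.{u}).Modules) (hq : Coh.IsQCoh F)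
    (hft : CohB1.IsFT F) :
    ∃ M : ModuleCat.{u} R, Module.Finite R M ∧ Nonempty (F ≅ (tilde M).restrict V.ι) := by
  have := hq
  obtain ⟨G, hG, hGft, ⟨e⟩⟩ := Coherent.exists_finiteType_extension_module_qcqs V hV F hft
  obtain ⟨M, ⟨i⟩⟩ := exists_tilde_iso G (h := hG)
  exact ⟨M, (Props12.isFT_tilde_iff M).1 (Coherent.isFT_of_epi i.inv hGft),
    ⟨e.symm ≪≫ (Scheme.Modules.restrictFunctor V.ι).mapIso i.symm⟩⟩

theorem isCoh_restrict_tilde {R : CommRingCat.{u}} (V : (Spec R).Opens) (M : ModuleCat.{u} R)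
    (hM : Module.Finite R M) (F : (V : Scheme.{u}).Modules) (e : F ≅ (tilde M).restrict V.ι) :
    Coh.IsCoh F := by
  have hq := Props12.isQCoh_tilde M
  have := EGA43.InjFibre.isQCoh_pullback V.ι (tilde M)
  let i := ((Scheme.Modules.restrictFunctorIsoPullback V.ι).app (tilde M)).symm ≪≫ e.symm
  exact ⟨Coherent.isQCoh_of_iso i, Coherent.isFT_of_epi e.inv
    (isFT_restrict V.ι (tilde M) ((Props12.isFT_tilde_iff M).2 hM))⟩

end Groth.Agent.AffSchLib
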